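import Groth.Agent.WEtNormalLib.Olivier
import Groth.Agent.HenselLib.HenselizationExists
import Groth.Agent.S12237
import Groth.Agent.S0736
import Groth.Agent.S7127
import Groth.Agent.S1996

/-! Weakly étale local maps preserve strict henselizations. -/

set_option autoImplicit false
set_option linter.style.haveILetI false
set_option backward.isDefEq.respectTransparency false
set_option maxHeartbeats 1000000
universe u

open IsLocalRing TensorProduct

namespace Groth.Agent.WEtSHLib

theorem isStrictHenselization_of_weaklyEtale (A B R : Type u) [CommRing A] [IsLocalRing A] [CommRing B]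
    [IsLocalRing B] [Algebra A B] [Algebra.WeaklyEtale A B] [CommRing R] [IsLocalRing R] [Algebra B R]
    [IsLocalHom (algebraMap B R)] [hR : Hensel.IsStrictHenselization B R] [Algebra A R] [IsScalarTower A B R]
    [IsLocalHom (algebraMap A R)] : Hensel.IsStrictHenselization A R := by
  haveI := hR.henselian
  haveI := Groth.Agent.S0736.result B R (Groth.Agent.S12237.result B R)
  haveI : Algebra.WeaklyEtale A R := Algebra.WeaklyEtale.trans A B R
  haveI hsc : IsSepClosed (ResidueField R) := hR.isSepClosure.sep_closed
  haveI hsep : Algebra.IsSeparable (ResidueField A) (ResidueField R) := by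
    let φ : ResidueField A ⊗[A] R →ₐ[ResidueField A] ResidueField R :=
      Algebra.TensorProduct.lift (Algebra.ofId _ _) (IsScalarTower.toAlgHom A R (ResidueField R))
        (fun _ _ => Commute.all _ _)
    letI : Algebra (ResidueField A ⊗[A] R) (ResidueField R) := φ.toRingHom.toAlgebra
    haveI : IsScalarTower (ResidueField A) (ResidueField A ⊗[A] R) (ResidueField R) :=
      IsScalarTower.of_algebraMap_eq' φ.comp_algebraMap.symm
    haveI : Algebra.IsEpi (ResidueField A ⊗[A] R) (ResidueField R) :=
      Algebra.isEpi_of_surjective_algebraMap _ _ fun y => by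
        obtain ⟨y, rfl⟩ := residue_surjective y
        refine ⟨1 ⊗ₜ y, ?_⟩
        show φ (1 ⊗ₜ y) = _
        rw [Algebra.TensorProduct.lift_tmul, map_one, one_mul]
        rfl
    haveI : Algebra.WeaklyEtale (ResidueField A) (ResidueField R) :=
      WEtFieldLib.weaklyEtale_of_epi (B := ResidueField A ⊗[A] R) _
    exact SweepSix.isSeparable_of_weaklyEtale
  haveI hR' : IsSepClosure (ResidueField A) (ResidueField R) := ⟨hsc, hsep⟩
  let S := HenselLib.SH A
  have hS : Hensel.IsStrictHenselization A S := inferInstance
  haveI := hS.henselian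
  haveI := hS.isSepClosure
  haveI : IsSepClosed (ResidueField S) := IsSepClosure.sep_closed (ResidueField A)
  let ε : ResidueField S ≃ₐ[ResidueField A] ResidueField R := IsSepClosure.equiv (ResidueField A) _ _
  obtain ⟨g, ⟨hg, hg'⟩, -⟩ := hS.universal R (algebraMap A R) (ε : ResidueField S →+* ResidueField R)
    (RingHom.ext fun x => ε.commutes x)
  letI : Algebra S R := g.toAlgebra
  haveI : IsScalarTower A S R := IsScalarTower.of_algebraMap_eq' hg.symm
  haveI : IsLocalHom (algebraMap S R) := ⟨fun z hz => by
    by_contra hnz
    refine (hz.map (residue R)).ne_zero ?_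
    show residue R (g z) = 0
    rw [hg', (residue_eq_zero_iff z).2 hnz, map_zero]⟩
  haveI : Algebra.WeaklyEtale A S := Groth.Agent.S0736.result A S (Groth.Agent.S12237.result A S)
  haveI : Algebra.WeaklyEtale S R := Groth.Agent.S7127.result A S R
  let e : S ≃+* R := RingEquiv.ofBijective g (WEtNormalLib.bijective_of_strictlyHenselian S R)
  refine ⟨inferInstance, inferInstance, fun T _ _ f _ τ hτ => ?_⟩
  let τ' : ResidueField S →+* ResidueField T := τ.comp (ε : ResidueField S →+* ResidueField R)
  obtain ⟨g0, ⟨h1, h2⟩, hu⟩ := hS.universal T f τ' (RingHom.ext fun x => by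
    show τ (ε (ResidueField.map (algebraMap A S) x)) = _
    rw [show ε (ResidueField.map (algebraMap A S) x) = ResidueField.map (algebraMap A R) x from ε.commutes x]
    exact RingHom.congr_fun hτ x)
  have hre : ∀ z : S, ε (residue S z) = residue R (e z) := fun z => (hg' z).symm
  refine ⟨g0.comp e.symm.toRingHom, ⟨RingHom.ext fun a => ?_, fun x => ?_⟩, fun g1 ⟨k1, k2⟩ => ?_⟩
  · show g0 (e.symm (algebraMap A R a)) = f a
    rw [show algebraMap A R a = e (algebraMap A S a) from (RingHom.congr_fun hg a).symm, e.symm_apply_apply]
    exact RingHom.congr_fun h1 a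
  · show residue T (g0 (e.symm x)) = _
    rw [h2]
    show τ (ε (residue S (e.symm x))) = _
    rw [hre, e.apply_symm_apply]
  · have h3 := hu (g1.comp e.toRingHom) ⟨RingHom.ext fun a => by
      show g1 (g (algebraMap A S a)) = f a
      rw [show g (algebraMap A S a) = algebraMap A R a from RingHom.congr_fun hg a]
      exact RingHom.congr_fun k1 a, fun z => by
      show residue T (g1 (e z)) = τ (ε (residue S z))
      rw [hre, k2]⟩
    rw [← h3]
    ext x
    show g1 x = g1 (e (e.symm x))
    rw [e.apply_symm_apply]

theorem weaklyEtale_of_isStrictHenselization (A B R : Type u) [CommRing A] [IsLocalRing A] [CommRing B]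
    [IsLocalRing B] [Algebra A B] [CommRing R] [IsLocalRing R] [Algebra B R]
    [IsLocalHom (algebraMap B R)] [Hensel.IsStrictHenselization B R] [Algebra A R] [IsScalarTower A B R]
    [IsLocalHom (algebraMap A R)] [Hensel.IsStrictHenselization A R] :
    Algebra.WeaklyEtale A B := by
  haveI := Groth.Agent.S0736.result B R (Groth.Agent.S12237.result B R)
  haveI := Groth.Agent.S0736.result A R (Groth.Agent.S12237.result A R)
  haveI : Module.FaithfullyFlat B R := Module.FaithfullyFlat.of_flat_of_isLocalHom
  exact Groth.Agent.S1996.result A B R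

end Groth.Agent.WEtSHLib
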